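import Mathlib
import Cfsg.Agent.S0215
import Cfsg.Agent.LThree.Red2
import Cfsg.Agent.FastGrp
import Cfsg.Agent.Prune
set_option linter.all false
prune_inst 0x7f00000000000000000000000000000000000000000000000000000000000000000000000000000000000000000000000000000000000000000000000000000000000000000000000000000000000000003fffffffffffffffffffffffffffbeffbdffffffff
open scoped Cfsg.Agent.FastGrp

/-!
# Tools for the rows of S1814 (helper76)

* `isSolvable_of_isolated` : `z` an involution of `H` with `C_H(z)` solvable and `z` the only involution of `C_H(z)`: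
  `H` is solvable;
* `isSolvable_of_two` : a normal 2-subgroup containing all the 2-elements: solvable;
* `card_fix` : `|A| ≡ |C_A(x)|` modulo `p`, `x` of order `p`; `card_fix_two`: `A` a 2-group of order `2^n`.
-/

set_option autoImplicit false
set_option linter.style.haveILetI false

namespace Cfsg.Agent.CpAutJ4

open Subgroup Cfsg

universe u

section solv

theorem exists_central_involution {P : Type*} [Group P] [Finite P] (hP : IsPGroup 2 P) [Nontrivial P] :
    ∃ w : P, w ∈ center P ∧ orderOf w = 2 := by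
  haveI : Fact (Nat.Prime 2) := ⟨Nat.prime_two⟩
  haveI := hP.center_nontrivial
  obtain ⟨n, hn, h1⟩ := (hP.to_subgroup (center P)).nontrivial_iff_card.1 inferInstance
  obtain ⟨w, hw⟩ := exists_prime_orderOf_dvd_card' (G := ↥(center P)) 2 (by
    rw [h1]
    exact dvd_pow_self 2 hn.ne')
  exact ⟨w, w.2, by rw [Subgroup.orderOf_coe, hw]⟩

theorem isSolvable_of_quot {H : Type*} [Group H] (N : Subgroup H) [N.Normal] (h1 : Group.IsSolvable ↥N)
    (h2 : Group.IsSolvable (H ⧸ N)) : Group.IsSolvable H := by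
  haveI := h1
  haveI := h2
  exact Group.isSolvable_of_ker_le_range N.subtype (QuotientGroup.mk' N) (by
    rw [QuotientGroup.ker_mk', range_subtype])

variable {H : Type u} [Group H] [Finite H]

theorem isSolvable_of_isolated (FT : ∀ (K : Type u) [Group K] [Finite K], Odd (Nat.card K) → Group.IsSolvable K)
    (z : H) (hz : orderOf z = 2) (h : ∀ t : H, orderOf t = 2 → t * z = z * t → t = z)
    (hs : Group.IsSolvable ↥(centralizer ({z} : Set H))) : Group.IsSolvable H := by
  haveI : Fact (Nat.Prime 2) := ⟨Nat.prime_two⟩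
  have hz2 : IsPGroup 2 ↥(zpowers z) := IsPGroup.of_card (n := 1) (by rw [Nat.card_zpowers, hz, pow_one])
  obtain ⟨P, hP⟩ := hz2.exists_le_sylow
  have hzP : z ∈ P := hP (mem_zpowers z)
  have hz1 : z ≠ 1 := by
    rintro rfl
    rw [orderOf_one] at hz
    exact absurd hz (by norm_num)
  haveI : Nontrivial ↥(P : Subgroup H) := ⟨⟨⟨z, hzP⟩, 1, fun h0 => hz1 (congrArg Subtype.val h0)⟩⟩
  obtain ⟨w, hw, hw2⟩ := exists_central_involution P.isPGroup'
  have hwz : (w : H) = z := by
    apply h
    · rw [Subgroup.orderOf_coe, hw2]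
    · exact (congrArg Subtype.val (mem_center_iff.1 hw ⟨z, hzP⟩)).symm
  have hzc : ∀ g ∈ P, g * z = z * g := by
    intro g hg
    rw [← hwz]
    exact congrArg Subtype.val (mem_center_iff.1 hw ⟨g, hg⟩)
  obtain ⟨N, hN, hNodd, hNc⟩ := Cfsg.Agent.S0215.result P z hz hzP (by
    intro g hg
    apply h
    · have h1 : orderOf (MulAut.conj g z) = orderOf z := MulEquiv.orderOf_eq _ _
      rw [hz] at h1
      exact h1
    · exact hzc _ hg)
  have hcop : (Nat.card ↥N).Coprime 2 := Nat.coprime_two_right.2 hNodd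
  have h1 := LThree.Red.centralizer_mk Nat.prime_two N hcop hz
  have h2 : centralizer ({(QuotientGroup.mk' N z)} : Set (H ⧸ N)) = ⊤ := by
    rw [eq_top_iff]
    intro y _
    obtain ⟨g, rfl⟩ := QuotientGroup.mk'_surjective N y
    have h4 : (QuotientGroup.mk' N) (z * g * z⁻¹ * g⁻¹) = 1 := (QuotientGroup.eq_one_iff _).2 (hNc g)
    rw [map_mul, map_mul, map_mul, map_inv, map_inv] at h4
    exact mem_centralizer_singleton_iff.2 (commutatorElement_eq_one_iff_mul_comm.1 h4).symm
  rw [h2] at h1
  have hsN : Group.IsSolvable ↥N := FT _ hNodd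
  have h3 : Group.IsSolvable (H ⧸ N) := by
    let f : ↥(centralizer ({z} : Set H)) →* H ⧸ N := (QuotientGroup.mk' N).comp (centralizer ({z} : Set H)).subtype
    refine Group.isSolvable_of_surjective (f := f) ?_
    intro y
    have hy : y ∈ (⊤ : Subgroup (H ⧸ N)) := mem_top y
    rw [h1] at hy
    obtain ⟨c, hc, rfl⟩ := hy
    exact ⟨⟨c, hc⟩, rfl⟩
  exact isSolvable_of_quot N hsN h3

/-- a normal 2-subgroup containing all the 2-elements: solvable -/
theorem isSolvable_of_two (FT : ∀ (K : Type u) [Group K] [Finite K], Odd (Nat.card K) → Group.IsSolvable K)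
    (T : Subgroup H) [T.Normal] (hT : IsPGroup 2 ↥T) (h : ∀ t : H, (∃ n : ℕ, t ^ 2 ^ n = 1) → t ∈ T) :
    Group.IsSolvable H := by
  haveI : Fact (Nat.Prime 2) := ⟨Nat.prime_two⟩
  apply isSolvable_of_quot T
  · haveI := hT.isNilpotent
    infer_instance
  · apply FT
    rw [← Nat.not_even_iff_odd, even_iff_two_dvd]
    intro h2
    obtain ⟨y, hy⟩ := exists_prime_orderOf_dvd_card' (G := H ⧸ T) 2 h2
    obtain ⟨g, rfl⟩ := QuotientGroup.mk'_surjective T y
    have h3 : g ^ 2 ∈ T := by
      rw [← QuotientGroup.eq_one_iff]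
      change (QuotientGroup.mk' T) (g ^ 2) = 1
      rw [map_pow, ← hy, pow_orderOf_eq_one]
    obtain ⟨n, hn⟩ := hT ⟨g ^ 2, h3⟩
    have h4 : g ∈ T := by
      apply h
      refine ⟨n + 1, ?_⟩
      rw [pow_succ', pow_mul]
      exact congrArg Subtype.val hn
    have h5 : (QuotientGroup.mk' T) g = 1 := (QuotientGroup.eq_one_iff g).2 h4
    rw [h5, orderOf_one] at hy
    exact absurd hy (by norm_num)

end solv

section count

/-- the number of fixed points -/
theorem card_fix {G : Type*} [Group G] [Finite G] {p : ℕ} [Fact p.Prime] {x : G} (hx : orderOf x = p) (A : Set G)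
    (hA : ∀ a ∈ A, x * a * x⁻¹ ∈ A) :
    Nat.card ↥A ≡ Nat.card {a : G // a ∈ A ∧ x * a = a * x} [MOD p] := by
  classical
  haveI := Fintype.ofFinite G
  let f : Function.End ↥A := fun a => ⟨x * a * x⁻¹, hA a a.2⟩
  have hf : ∀ (n : ℕ) (a : ↥A), ((f ^ n) a : G) = x ^ n * a * (x ^ n)⁻¹ := by
    intro n
    induction n with
    | zero =>
      intro a
      rw [pow_zero, pow_zero, one_mul, inv_one, mul_one]
      rfl
    | succ n ih =>
      intro a
      have h1 : (f ^ (n + 1)) a = (f ^ n) (f a) := by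
        rw [pow_succ]
        rfl
      rw [h1, ih]
      change x ^ n * (x * a * x⁻¹) * (x ^ n)⁻¹ = _
      rw [pow_succ, mul_inv_rev]
      group
  have hfp : f ^ p ^ 1 = 1 := by
    funext a
    apply Subtype.ext
    rw [hf, pow_one, ← hx, pow_orderOf_eq_one, one_mul, inv_one, mul_one]
    rfl
  have h2 := Equiv.Perm.card_fixedPoints_modEq hfp
  rw [Nat.card_eq_fintype_card]
  have h3 : Nat.card {a : G // a ∈ A ∧ x * a = a * x} = Fintype.card ↥(Function.fixedPoints f) := by
    rw [← Nat.card_eq_fintype_card]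
    refine Nat.card_congr ⟨fun a => ⟨⟨a, a.2.1⟩, ?_⟩, fun a => ⟨((a : ↥A) : G), (a : ↥A).2, ?_⟩, fun a => rfl, fun a => rfl⟩
    · apply Subtype.ext
      change x * a * x⁻¹ = a
      rw [a.2.2, mul_inv_cancel_right]
    · have h4 : f (a : ↥A) = a := a.2
      have h5 : x * ((a : ↥A) : G) * x⁻¹ = ((a : ↥A) : G) := congrArg Subtype.val h4
      rw [mul_inv_eq_iff_eq_mul] at h5
      exact h5
  rw [h3]
  exact h2

end count

end Cfsg.Agent.CpAutJ4
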